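import Mathlib
import Groth.Prelude.Def_AlphaP
import Groth.Agent.MuPairLib.Basic
import Groth.Agent.FinAlgLib.Split

/-!
# Alternating pairings on finite group schemes of prime order
-/

set_option autoImplicit false
set_option linter.style.haveILetI false
set_option linter.unusedSectionVars false
set_option maxHeartbeats 1000000

universe u

open WithConv

noncomputable section

namespace Groth.Agent.PrimeTheta

variable (k : Type u) [Field k] (A : Type u) [CommRing A] [HopfAlgebra k A]

/-- A bilinear alternating pairing on points with values in units. -/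
structure Pair where
  V : ∀ (C : Type u) [CommRing C] [Algebra k C], WithConv (A →ₐ[k] C) → WithConv (A →ₐ[k] C) → C
  nat : ∀ {C D : Type u} [CommRing C] [Algebra k C] [CommRing D] [Algebra k D] (L : C →ₐ[k] D)
    (x y : WithConv (A →ₐ[k] C)), L (V C x y) = V D (toConv (L.comp x.ofConv)) (toConv (L.comp y.ofConv))
  unit : ∀ {C : Type u} [CommRing C] [Algebra k C] (x y : WithConv (A →ₐ[k] C)), IsUnit (V C x y)
  mulL : ∀ {C : Type u} [CommRing C] [Algebra k C] (x x' y : WithConv (A →ₐ[k] C)),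
    V C (x * x') y = V C x y * V C x' y
  mulR : ∀ {C : Type u} [CommRing C] [Algebra k C] (x y y' : WithConv (A →ₐ[k] C)),
    V C x (y * y') = V C x y * V C x y'
  alt : ∀ {C : Type u} [CommRing C] [Algebra k C] (x : WithConv (A →ₐ[k] C)), V C x x = 1

variable {k A}

/-! ### Two infinitesimals -/

section Two

/-- Functions of two infinitesimals. -/
abbrev C2 (k : Type u) [Field k] : Type u := DualNumber (DualNumber k)

variable (k)

/-- The first infinitesimal. -/
def e1 : C2 k := DualNumber.eps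

/-- The second infinitesimal. -/
def e2 : C2 k := TrivSqZeroExt.inl (DualNumber.eps : DualNumber k)

theorem he1 : e1 k * e1 k = 0 := DualNumber.eps_mul_eps

theorem he2 : e2 k * e2 k = 0 := by
  unfold e2
  rw [← TrivSqZeroExt.inl_mul, DualNumber.eps_mul_eps, TrivSqZeroExt.inl_zero]

variable {k}

theorem exists_map2 {C : Type u} [CommRing C] [Algebra k C] (a b : C) (ha : a * a = 0) (hb : b * b = 0) :
    ∃ L : C2 k →ₐ[k] C, L (e1 k) = a ∧ L (e2 k) = b := by
  let F : DualNumber k →ₐ[k] C := DualNumber.lift ⟨(Algebra.ofId k C, b), hb, fun _ => Commute.all _ _⟩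
  let G : C2 k →ₐ[k] C := DualNumber.lift ⟨(F, a), ha, fun _ => Commute.all _ _⟩
  have hF : F DualNumber.eps = b := DualNumber.lift_apply_eps _
  refine ⟨G, DualNumber.lift_apply_eps _, ?_⟩
  exact (DualNumber.lift_apply_inl _ _).trans hF

/-- A function equal to one on both axes is `1 + d ε ε'`, hence symmetric. -/
theorem eq_one_add (w : C2 k)
    (hZ : ∀ L : C2 k →ₐ[k] DualNumber k, L (e1 k) = 0 → L w = 1)
    (hZ' : ∀ L : C2 k →ₐ[k] DualNumber k, L (e2 k) = 0 → L w = 1) :
    ∃ d : k, w = 1 + algebraMap k (C2 k) d * (e1 k * e2 k) := by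
  obtain ⟨F, hF1, hF2⟩ := exists_map2 (k := k) (0 : DualNumber k) DualNumber.eps (mul_zero _) DualNumber.eps_mul_eps
  obtain ⟨F', hF1', hF2'⟩ := exists_map2 (k := k) (DualNumber.eps : DualNumber k) 0 DualNumber.eps_mul_eps (mul_zero _)
  have hd : w = w.fst.fst • (1 : C2 k) + w.fst.snd • e2 k + w.snd.fst • e1 k + w.snd.snd • (e1 k * e2 k) := by
    apply TrivSqZeroExt.ext <;> apply TrivSqZeroExt.ext <;> simp [e1, e2]
  have h1 := hZ F hF1
  have h2 := hZ' F' hF2'
  rw [hd] at h1 h2
  simp only [map_add, map_smul, map_one, map_mul, hF1, hF2, hF1', hF2', mul_zero, zero_mul, smul_zero, add_zero] at h1 h2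
  have a1 : w.fst.fst = 1 := by simpa using congrArg TrivSqZeroExt.fst h1
  have b0 : w.fst.snd = 0 := by simpa using congrArg TrivSqZeroExt.snd h1
  have c0 : w.snd.fst = 0 := by simpa using congrArg TrivSqZeroExt.snd h2
  refine ⟨w.snd.snd, ?_⟩
  rw [← Algebra.smul_def]
  conv_lhs => rw [hd, a1, b0, c0]
  simp

theorem smul_e12_eq_zero {d : k} (h : algebraMap k (C2 k) d * (e1 k * e2 k) = 0) : d = 0 := by
  rw [← Algebra.smul_def] at h
  simpa [e1, e2] using congrArg (fun t : C2 k => t.snd.snd) h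

end Two

namespace Pair

variable (P : Pair k A) {C : Type u} [CommRing C] [Algebra k C]

theorem oneL (y : WithConv (A →ₐ[k] C)) : P.V C 1 y = 1 := by
  have h := P.mulL 1 1 y
  rw [one_mul] at h
  exact (P.unit 1 y).mul_left_cancel (by rw [mul_one]; exact h.symm)

theorem oneR (y : WithConv (A →ₐ[k] C)) : P.V C y 1 = 1 := by
  have h := P.mulR y 1 1
  rw [one_mul] at h
  exact (P.unit y 1).mul_left_cancel (by rw [mul_one]; exact h.symm)

/-- Transport along an equivalence of bialgebras. -/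
def map {A' : Type u} [CommRing A'] [HopfAlgebra k A'] (e : A ≃ₐc[k] A') : Pair k A' where
  V C _ _ x y := P.V C (toConv (x.ofConv.comp ((e : A →ₐc[k] A') : A →ₐ[k] A')))
    (toConv (y.ofConv.comp ((e : A →ₐc[k] A') : A →ₐ[k] A')))
  nat L x y := by rw [P.nat]; rfl
  unit x y := P.unit _ _
  mulL x x' y := by rw [AlgHom.convMul_comp_bialgHom_distrib]; exact P.mulL _ _ _
  mulR x y y' := by rw [AlgHom.convMul_comp_bialgHom_distrib]; exact P.mulR _ _ _
  alt x := P.alt _

theorem trivial_of_map {A' : Type u} [CommRing A'] [HopfAlgebra k A'] (e : A ≃ₐc[k] A')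
    (h : ∀ (C : Type u) [CommRing C] [Algebra k C] (x y : WithConv (A' →ₐ[k] C)), (P.map e).V C x y = 1)
    (x y : WithConv (A →ₐ[k] C)) : P.V C x y = 1 := by
  have hc : ∀ z : WithConv (A →ₐ[k] C), toConv
      ((z.ofConv.comp ((e.symm : A' →ₐc[k] A) : A' →ₐ[k] A)).comp ((e : A →ₐc[k] A') : A →ₐ[k] A')) = z :=
    fun z => congrArg toConv (AlgHom.ext fun a => congrArg z.ofConv (e.symm_apply_apply a))
  have h' := h C (toConv (x.ofConv.comp ((e.symm : A' →ₐc[k] A) : A' →ₐ[k] A)))
    (toConv (y.ofConv.comp ((e.symm : A' →ₐc[k] A) : A' →ₐ[k] A)))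
  rw [← hc x, ← hc y]
  exact h'

/-! ### Etale groups -/

theorem trivial_of_points [IsAlgClosed k] [Module.Finite k A] [IsReduced A] {ℓ : ℕ} [Fact ℓ.Prime]
    (hA : Module.finrank k A = ℓ) (x y : WithConv (A →ₐ[k] C)) : P.V C x y = 1 := by
  classical
  haveI : Finite (A →ₐ[k] k) := (linearIndependent_algHom_toLinearMap k A k).finite
  haveI := Fintype.ofFinite (A →ₐ[k] k)
  have hbij : Function.Bijective (FinAlgLib.ev k A) := by
    refine ⟨fun a b h => sub_eq_zero.1 ?_, FinAlgLib.ev_surjective⟩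
    exact (FinAlgLib.isNilpotent_of_ev_eq_zero (k := k) (x := a - b) (by rw [map_sub, h, sub_self])).eq_zero
  let E := AlgEquiv.ofBijective (FinAlgLib.ev k A) hbij
  have hcard : Nat.card (WithConv (A →ₐ[k] k)) = ℓ := by
    rw [Nat.card_congr (WithConv.equiv (A →ₐ[k] k)), Nat.card_eq_fintype_card, ← hA,
      LinearEquiv.finrank_eq E.toLinearEquiv, Module.finrank_fintype_fun_eq_card]
  haveI : IsCyclic (WithConv (A →ₐ[k] k)) := isCyclic_of_prime_card hcard
  haveI : Finite (WithConv (A →ₐ[k] k)) := Nat.finite_of_card_ne_zero (hcard ▸ (Fact.out : ℓ.Prime).ne_zero)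
  obtain ⟨g, hg⟩ := IsCyclic.exists_monoid_generator (α := WithConv (A →ₐ[k] k))
  have hg1 : ∀ i : ℕ, P.V k g (g ^ i) = 1 := fun i => by
    induction i with
    | zero => rw [pow_zero, P.oneR]
    | succ i ih => rw [pow_succ, P.mulR, ih, P.alt, one_mul]
  have h0 : ∀ a b : WithConv (A →ₐ[k] k), P.V k a b = 1 := fun a b => by
    obtain ⟨i, rfl⟩ := Submonoid.mem_powers_iff _ _ |>.1 (hg a)
    obtain ⟨j, rfl⟩ := Submonoid.mem_powers_iff _ _ |>.1 (hg b)
    induction i with
    | zero => rw [pow_zero, P.oneL]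
    | succ i ih => rw [pow_succ, P.mulL, ih, hg1, one_mul]
  -- the constant pieces of a point
  have pieces : ∀ (C : Type u) [CommRing C] [Algebra k C] (x : A →ₐ[k] C) (z : C),
      (∀ (D : Type u) [CommRing D] [Algebra k D] (π : C →ₐ[k] D) (h : A →ₐ[k] k),
        π.comp x = (Algebra.ofId k D).comp h → π z = 1) → z = 1 := by
    intro C _ _ x z hz
    let e : (A →ₐ[k] k) → C := fun h => x (E.symm (Pi.single h 1))
    have hsum : ∑ h, e h = 1 := by
      simp only [e, ← map_sum, Finset.univ_sum_single (1 : (A →ₐ[k] k) → k), map_one]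
      rw [show (∑ h : A →ₐ[k] k, (Pi.single h 1 : (A →ₐ[k] k) → k)) = 1 from
        Finset.univ_sum_single (1 : (A →ₐ[k] k) → k), map_one, map_one]
    have hkey : ∀ h, e h * (z - 1) = 0 := fun h => by
      let I : Ideal C := Ideal.span {1 - e h}
      have he : Ideal.Quotient.mkₐ k I (e h) = 1 := by
        have := (Ideal.Quotient.eq_zero_iff_mem (I := I)).2 (Ideal.subset_span rfl)
        rw [map_sub, map_one, sub_eq_zero] at this
        exact this.symm
      have h1 := hz (C ⧸ I) (Ideal.Quotient.mkₐ k I) h (AlgHom.ext fun a => by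
        show Ideal.Quotient.mkₐ k I (x a) = algebraMap k _ (h a)
        have hm : x a * e h = algebraMap k C (h a) * e h := by
          simp only [e, ← map_mul]
          rw [← Algebra.smul_def, ← map_smul]
          congr 1
          apply E.injective
          rw [map_mul, map_smul, E.apply_symm_apply]
          ext g
          by_cases hgh : g = h
          · subst hgh; simp [E, FinAlgLib.ev_apply]
          · simp [hgh]
        have := congrArg (Ideal.Quotient.mkₐ k I) hm
        rwa [map_mul, map_mul, he, mul_one, mul_one, AlgHom.commutes] at this)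
      obtain ⟨c, hc⟩ := Ideal.mem_span_singleton'.1 ((Ideal.Quotient.eq (I := I)).1
        (show Ideal.Quotient.mk I z = Ideal.Quotient.mk I 1 from h1.trans (map_one _).symm))
      have hidem : e h * e h = e h := by
        simp only [e, ← map_mul, ← Pi.single_mul, one_mul]
      rw [← hc]
      calc e h * (c * (1 - e h)) = c * (e h - e h * e h) := by ring
        _ = 0 := by rw [hidem, sub_self, mul_zero]
    have h0' : (∑ h, e h) * (z - 1) = 0 := by
      rw [Finset.sum_mul]
      exact Finset.sum_eq_zero fun h _ => hkey h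
    rwa [hsum, one_mul, sub_eq_zero] at h0'
  refine pieces C x.ofConv _ fun D _ _ π h hx => ?_
  rw [P.nat, hx]
  refine pieces D (π.comp y.ofConv) _ fun D' _ _ π' h' hy => ?_
  rw [P.nat]
  simp only [ofConv_toConv]
  rw [hy, show π'.comp ((Algebra.ofId k D).comp h) = (Algebra.ofId k D').comp h from
    AlgHom.ext fun a => π'.commutes (h a)]
  have := P.nat (Algebra.ofId k D') (toConv h) (toConv h')
  rw [h0, map_one] at this
  exact this.symm

/-! ### Roots of unity -/

theorem trivial_mu {n : ℕ} [NeZero n] (P : Pair k (MonoidAlgebra k (Multiplicative (ZMod n))))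
    (x y : WithConv (MonoidAlgebra k (Multiplicative (ZMod n)) →ₐ[k] C)) : P.V C x y = 1 := by
  let M := Multiplicative (ZMod n)
  have hmul : ∀ (C : Type u) [CommRing C] [Algebra k C] (χ χ' : M →* C),
      toConv (MonoidAlgebra.lift k C M (χ * χ')) =
        toConv (MonoidAlgebra.lift k C M χ) * toConv (MonoidAlgebra.lift k C M χ') := by
    intro C _ _ χ χ'
    apply WithConv.ofConv_injective
    refine MonoidAlgebra.algHom_ext (fun m => ?_) (Subsingleton.elim _ _)
    refine (?_ : _ = (χ m * χ' m)).trans ?_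
    · simp
    · symm
      show (toConv (MonoidAlgebra.lift k C M χ) * toConv (MonoidAlgebra.lift k C M χ')) (MonoidAlgebra.single m 1) = _
      rw [AlgHom.convMul_apply]
      simp
  have hone : ∀ (C : Type u) [CommRing C] [Algebra k C],
      toConv (MonoidAlgebra.lift k C M 1) = (1 : WithConv (MonoidAlgebra k M →ₐ[k] C)) := by
    intro C _ _
    apply WithConv.ofConv_injective
    refine MonoidAlgebra.algHom_ext (fun m => ?_) (Subsingleton.elim _ _)
    show _ = (1 : WithConv (MonoidAlgebra k M →ₐ[k] C)) (MonoidAlgebra.single m 1)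
    rw [AlgHom.convOne_apply]
    simp
  have hnat : ∀ (C D : Type u) [CommRing C] [Algebra k C] [CommRing D] [Algebra k D] (L : C →ₐ[k] D) (χ : M →* C),
      L.comp (MonoidAlgebra.lift k C M χ) = MonoidAlgebra.lift k D M ((L : C →* D).comp χ) := by
    intro C D _ _ _ _ L χ
    refine MonoidAlgebra.algHom_ext (fun m => ?_) (Subsingleton.elim _ _)
    simp
  let Q : MuPair.Pairing n k :=
    { V := fun C _ _ χ ψ => P.V C (toConv (MonoidAlgebra.lift k C M χ)) (toConv (MonoidAlgebra.lift k C M ψ))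
      nat := fun L χ ψ => by rw [P.nat, ofConv_toConv, ofConv_toConv, hnat, hnat]
      mulL := fun χ χ' ψ => by rw [hmul, P.mulL]
      mulR := fun χ ψ ψ' => by rw [hmul, P.mulR]
      oneL := fun {C} _ _ ψ => by rw [hone, P.oneL]
      alt := fun χ => P.alt _ }
  have := Q.trivial ((MonoidAlgebra.lift k C M).symm x.ofConv) ((MonoidAlgebra.lift k C M).symm y.ofConv)
  simpa [Q, M] using this

/-! ### The group `α_p` -/

open Polynomial in
theorem trivial_alpha {p : ℕ} [Fact p.Prime] [CharP k p] (hp : p ≠ 2) (P : Pair k (AlphaP.A p k))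
    (x y : WithConv (AlphaP.A p k →ₐ[k] C)) : P.V C x y = 1 := by
  classical
  have hp2 : 2 ≤ p := (Fact.out : p.Prime).two_le
  let q : ∀ {C : Type u} [CommRing C] [Algebra k C] (a : C), a ^ p = 0 → WithConv (AlphaP.A p k →ₐ[k] C) :=
    fun a ha => toConv (AlphaP.lift p k a ha)
  let u : ∀ {C : Type u} [CommRing C] [Algebra k C] (a b : C), a ^ p = 0 → b ^ p = 0 → C :=
    fun {C} _ _ a b ha hb => P.V C (q a ha) (q b hb)
  have qadd : ∀ {C : Type u} [CommRing C] [Algebra k C] (a b : C) (ha : a ^ p = 0) (hb : b ^ p = 0),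
      q (a + b) (AlphaP.add_pow_eq_zero p k (Commute.all _ _) ha hb) = q a ha * q b hb := by
    intro C _ _ a b ha hb
    apply WithConv.ofConv_injective
    refine AlphaP.algHom_ext ?_
    show AlphaP.lift p k (a + b) (AlphaP.add_pow_eq_zero p k (Commute.all _ _) ha hb) (AlphaP.x p k) = (q a ha * q b hb) (AlphaP.x p k)
    rw [AlgHom.convMul_apply, AlphaP.comul_x, AlphaP.lift_x]
    simp [q]
  have q0 : ∀ {C : Type u} [CommRing C] [Algebra k C] (h : (0 : C) ^ p = 0), q (0 : C) h = 1 := by
    intro C _ _ h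
    apply WithConv.ofConv_injective
    refine AlphaP.algHom_ext ?_
    show AlphaP.lift p k (0 : C) h (AlphaP.x p k) = (1 : WithConv (AlphaP.A p k →ₐ[k] C)) (AlphaP.x p k)
    rw [AlgHom.convOne_apply, AlphaP.counit_x, AlphaP.lift_x, map_zero]
  have unat : ∀ {C D : Type u} [CommRing C] [Algebra k C] [CommRing D] [Algebra k D] (L : C →ₐ[k] D)
      (a b : C) (ha : a ^ p = 0) (hb : b ^ p = 0) (c d : D) (hc : c ^ p = 0) (hd : d ^ p = 0),
      L a = c → L b = d → L (u a b ha hb) = u c d hc hd := by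
    intro C D _ _ _ _ L a b ha hb c d hc hd e1 e2
    simp only [u]
    rw [P.nat]
    congr 1
    · exact congrArg toConv (AlphaP.algHom_ext (by simp [q, e1]))
    · exact congrArg toConv (AlphaP.algHom_ext (by simp [q, e2]))
  have sqp : ∀ {C : Type u} [CommRing C] (a : C), a * a = 0 → a ^ p = 0 := fun a ha => by
    obtain ⟨r, hr⟩ := Nat.exists_eq_add_of_le hp2
    rw [hr, pow_add, sq, ha, zero_mul]
  -- infinitesimal points
  let w : C2 k := u (e1 k) (e2 k) (sqp _ (he1 k)) (sqp _ (he2 k))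
  obtain ⟨σ, hσ1, hσ2⟩ := exists_map2 (k := k) (e2 k) (e1 k) (he2 k) (he1 k)
  have hw3 : w * σ w = 1 := by
    have e := unat σ (e1 k) (e2 k) (sqp _ (he1 k)) (sqp _ (he2 k)) (e2 k) (e1 k) (sqp _ (he2 k)) (sqp _ (he1 k)) hσ1 hσ2
    rw [show σ w = _ from e]
    have h := P.alt (q (e1 k + e2 k) (AlphaP.add_pow_eq_zero (B := C2 k) p k (Commute.all (e1 k) (e2 k)) (sqp (e1 k) (he1 k)) (sqp (e2 k) (he2 k))))
    rw [qadd (e1 k) (e2 k) (sqp _ (he1 k)) (sqp _ (he2 k)), P.mulL, P.mulR, P.mulR, P.alt, P.alt, one_mul, mul_one] at h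
    exact h
  have hp0 : p ≠ 0 := by omega
  obtain ⟨d, hd⟩ := eq_one_add w (fun L hL => by
      have e := unat L (e1 k) (e2 k) (sqp _ (he1 k)) (sqp _ (he2 k)) 0 (L (e2 k)) (zero_pow hp0)
        (by rw [← map_pow, sqp (e2 k) (he2 k), map_zero]) hL rfl
      refine e.trans ?_
      simp only [u, q0, P.oneL])
    (fun L hL => by
      have e := unat L (e1 k) (e2 k) (sqp _ (he1 k)) (sqp _ (he2 k)) (L (e1 k)) 0
        (by rw [← map_pow, sqp (e1 k) (he1 k), map_zero]) (zero_pow hp0) rfl hL
      refine e.trans ?_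
      simp only [u, q0, P.oneR])
  have hw : w = 1 := by
    have h4 : (e1 k * e2 k) * (e1 k * e2 k) = 0 := by linear_combination (e2 k * e2 k) * he1 k
    have hσw : σ w = w := by
      rw [hd, map_add, map_one, map_mul, map_mul, AlgHom.commutes, hσ1, hσ2, mul_comm (e2 k)]
    rw [hσw, hd] at hw3
    have h2 : algebraMap k (C2 k) (2 * d) * (e1 k * e2 k) = 0 := by
      rw [map_mul, map_ofNat]
      linear_combination hw3 - (algebraMap k (C2 k) d) ^ 2 * h4
    have h20 : (2 : k) ≠ 0 := by
      intro h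
      have := (CharP.cast_eq_zero_iff k p 2).1 (by exact_mod_cast h)
      exact hp ((Nat.prime_dvd_prime_iff_eq Fact.out Nat.prime_two).1 this)
    rw [hd, (mul_eq_zero.1 (smul_e12_eq_zero h2)).resolve_left h20, map_zero, zero_mul, add_zero]
  have small : ∀ {C : Type u} [CommRing C] [Algebra k C] (a b : C) (ha : a * a = 0) (hb : b * b = 0),
      u a b (sqp _ ha) (sqp _ hb) = 1 := by
    intro C _ _ a b ha hb
    obtain ⟨L, h1, h2⟩ := exists_map2 (k := k) a b ha hb
    rw [← unat L (e1 k) (e2 k) (sqp _ (he1 k)) (sqp _ (he2 k)) a b (sqp _ ha) (sqp _ hb) h1 h2]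
    exact (congrArg L hw).trans (map_one L)
  -- translation invariant functions are constant
  have deriv : ∀ (C : Type u) [CommRing C] [Algebra k C] (F : C → C) (G : AdjoinRoot ((X : C[X]) ^ p)),
      (∀ σ : AdjoinRoot ((X : C[X]) ^ p) →ₐ[C] DualNumber (AdjoinRoot ((X : C[X]) ^ p)),
        σ (AdjoinRoot.root _) = TrivSqZeroExt.inl (AdjoinRoot.root _) + DualNumber.eps → σ G = TrivSqZeroExt.inl G) →
      ∀ a : C, ∀ π : AdjoinRoot ((X : C[X]) ^ p) →ₐ[C] C, π (AdjoinRoot.root _) = a →
      ∀ π₀ : AdjoinRoot ((X : C[X]) ^ p) →ₐ[C] C, π₀ (AdjoinRoot.root _) = 0 → π G = π₀ G := by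
    intro C _ _ F G hG a π hπ π₀ hπ₀
    rcases subsingleton_or_nontrivial C with hC | hC
    · exact Subsingleton.elim _ _
    let B := AdjoinRoot ((X : C[X]) ^ p)
    let r : B := AdjoinRoot.root _
    obtain ⟨f₀, hf₀⟩ := AdjoinRoot.mk_surjective G
    let f := f₀ %ₘ (X : C[X]) ^ p
    have hf : AdjoinRoot.mk _ f = G := by
      rw [← hf₀, AdjoinRoot.mk_eq_mk]
      exact ⟨-(f₀ /ₘ (X : C[X]) ^ p), by
        have := Polynomial.modByMonic_add_div f₀ ((X : C[X]) ^ p)
        linear_combination this⟩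
    have hr : r ^ p = 0 := by
      have h : AdjoinRoot.mk ((X : C[X]) ^ p) ((X : C[X]) ^ p) = 0 := AdjoinRoot.mk_self
      rwa [map_pow, AdjoinRoot.mk_X] at h
    have hpz : ((p : ℕ) : B) = 0 := by
      rw [← map_natCast (algebraMap C B), AlphaP.natCast_eq_zero p k C, map_zero]
    have hre : (TrivSqZeroExt.inl r + DualNumber.eps : DualNumber B) ^ p = 0 := by
      obtain ⟨t, ht⟩ := (Commute.all (TrivSqZeroExt.inl r : DualNumber B) DualNumber.eps).exists_add_pow_prime_eq
        (Fact.out : p.Prime)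
      have hpD : ((p : ℕ) : DualNumber B) = 0 := by
        rw [← map_natCast (algebraMap B (DualNumber B)), hpz, map_zero]
      rw [ht, hpD, zero_mul, zero_mul, zero_mul, add_zero, TrivSqZeroExt.inl_pow, hr, TrivSqZeroExt.inl_zero,
        zero_add]
      exact sqp _ DualNumber.eps_mul_eps
    let σ : B →ₐ[C] DualNumber B := AdjoinRoot.liftAlgHom ((X : C[X]) ^ p) (Algebra.ofId C _)
      (TrivSqZeroExt.inl r + DualNumber.eps) (by rw [eval₂_X_pow]; exact hre)
    have hσr : σ r = TrivSqZeroExt.inl r + DualNumber.eps := AdjoinRoot.liftAlgHom_root _ _ _ _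
    have hfe : ∀ g : C[X], AdjoinRoot.mk _ g = aeval r g := fun g => (AdjoinRoot.aeval_eq g).symm
    have key : ∀ g : C[X], aeval (TrivSqZeroExt.inl r + DualNumber.eps : DualNumber B) g =
        TrivSqZeroExt.inl (aeval r g) + aeval r (derivative g) • (DualNumber.eps : DualNumber B) := by
      intro g
      induction g using Polynomial.induction_on' with
      | add g h hg hh => simp only [map_add, hg, hh, add_smul]; apply TrivSqZeroExt.ext <;> simp <;> ring
      | monomial n c =>
        have hn : ∀ n : ℕ, (TrivSqZeroExt.inl r + DualNumber.eps : DualNumber B) ^ n =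
            TrivSqZeroExt.inl (r ^ n) + ((n : B) * r ^ (n - 1)) • (DualNumber.eps : DualNumber B) := by
          intro n
          induction n with
          | zero => simp
          | succ n ih =>
            rw [pow_succ, ih]
            apply TrivSqZeroExt.ext
            · simp [pow_succ]
            · rcases n with _ | n
              · simp
              · simp [pow_succ]; ring
        rw [derivative_monomial, aeval_monomial, aeval_monomial, aeval_monomial, hn]
        apply TrivSqZeroExt.ext <;> simp [TrivSqZeroExt.algebraMap_eq_inl'] <;> ring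
    have h1 := hG σ hσr
    rw [← hf, hfe, ← aeval_algHom_apply, hσr, key, add_eq_left] at h1
    have h2 : AdjoinRoot.mk ((X : C[X]) ^ p) (derivative f) = 0 := by
      rw [hfe]
      simpa using congrArg TrivSqZeroExt.snd h1
    have hdeg : ∀ n, p ≤ n → f.coeff n = 0 := fun n hn => by
      refine coeff_eq_zero_of_degree_lt (lt_of_lt_of_le (degree_modByMonic_lt _ (monic_X_pow p)) ?_)
      rw [degree_X_pow]; exact_mod_cast hn
    rw [AdjoinRoot.mk_eq_zero, X_pow_dvd_iff] at h2
    have hc : ∀ n, f.coeff (n + 1) = 0 := fun n => by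
      by_cases hn : n + 1 < p
      · have h3 := h2 n (by omega)
        rw [coeff_derivative] at h3
        have hu : IsUnit ((n : C) + 1) := by
          have : ((n + 1 : ℕ) : k) ≠ 0 := fun h => by
            have := Nat.le_of_dvd (by omega) ((CharP.cast_eq_zero_iff k p _).1 h)
            omega
          have := (isUnit_iff_ne_zero.2 this).map (algebraMap k C)
          rwa [map_natCast, Nat.cast_succ] at this
        exact (hu.mul_left_eq_zero).1 h3
      · exact hdeg _ (by omega)
    have hfc : f = Polynomial.C (f.coeff 0) := by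
      ext n
      rcases n with _ | n <;> simp [hc]
    rw [← hf, hfe, hfc, aeval_C, AlgHom.commutes, AlgHom.commutes]
  -- one small point
  have mid : ∀ (C : Type u) [CommRing C] [Algebra k C] (e a : C) (he : e * e = 0) (ha : a ^ p = 0),
      u e a (sqp _ he) ha = 1 := by
    intro C _ _ e a he ha
    let B := AdjoinRoot ((X : C[X]) ^ p)
    let r : B := AdjoinRoot.root _
    have hr : r ^ p = 0 := by
      have h : AdjoinRoot.mk ((X : C[X]) ^ p) ((X : C[X]) ^ p) = 0 := AdjoinRoot.mk_self
      rwa [map_pow, AdjoinRoot.mk_X] at h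
    let eB : B := algebraMap C B e
    have heB : eB * eB = 0 := by simp only [eB, ← map_mul, he, map_zero]
    let π : B →ₐ[C] C := AdjoinRoot.liftAlgHom _ (Algebra.ofId C C) a (by rw [eval₂_X_pow]; exact ha)
    let π₀ : B →ₐ[C] C := AdjoinRoot.liftAlgHom _ (Algebra.ofId C C) 0
      (by rw [eval₂_X_pow]; exact zero_pow hp0)
    have hπr : π r = a := AdjoinRoot.liftAlgHom_root _ _ _ (by rw [eval₂_X_pow]; exact ha)
    have hπ₀r : π₀ r = 0 := AdjoinRoot.liftAlgHom_root _ _ _ (by rw [eval₂_X_pow]; exact zero_pow hp0)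
    have h := deriv C id (u eB r (sqp _ heB) hr) (fun σ hσ => by
      let i : B →ₐ[k] DualNumber B := (IsScalarTower.toAlgHom k B (DualNumber B))
      have heD : (i eB) * (i eB) = 0 := by rw [← map_mul, heB, map_zero]
      have e3 : (σ.restrictScalars k) (u eB r (sqp _ heB) hr) =
          u (i eB) (i r + DualNumber.eps) (sqp _ heD) (AlphaP.add_pow_eq_zero p k (Commute.all _ _)
            (by rw [← map_pow, hr, map_zero]) (sqp _ DualNumber.eps_mul_eps)) :=
        unat _ _ _ _ _ _ _ _ _ (by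
          show σ (algebraMap C B e) = i (algebraMap C B e)
          rw [AlgHom.commutes]
          rfl) hσ
      refine e3.trans ?_
      simp only [u]
      rw [qadd _ _ (by rw [← map_pow, hr, map_zero]) (sqp _ DualNumber.eps_mul_eps), P.mulR]
      have e4 := small (i eB) (DualNumber.eps : DualNumber B) heD DualNumber.eps_mul_eps
      simp only [u] at e4
      rw [e4, mul_one]
      exact (unat i eB r (sqp _ heB) hr _ _ _ _ rfl rfl).symm) a π hπr π₀ hπ₀r
    have h1 : (π.restrictScalars k) (u eB r (sqp _ heB) hr) = u e a (sqp _ he) ha :=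
      unat _ _ _ _ _ _ _ _ _ (π.commutes e) hπr
    have h2 : (π₀.restrictScalars k) (u eB r (sqp _ heB) hr) = u e 0 (sqp _ he) (zero_pow (n := p) hp0) :=
      unat _ _ _ _ _ _ _ _ _ (π₀.commutes e) hπ₀r
    rw [← h1]
    refine h.trans (h2.trans ?_)
    simp only [u, q0, P.oneR]
  -- all points
  have full : ∀ (C : Type u) [CommRing C] [Algebra k C] (a b : C) (ha : a ^ p = 0) (hb : b ^ p = 0),
      u a b ha hb = 1 := by
    intro C _ _ a b ha hb
    let B := AdjoinRoot ((X : C[X]) ^ p)
    let r : B := AdjoinRoot.root _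
    have hr : r ^ p = 0 := by
      have h : AdjoinRoot.mk ((X : C[X]) ^ p) ((X : C[X]) ^ p) = 0 := AdjoinRoot.mk_self
      rwa [map_pow, AdjoinRoot.mk_X] at h
    let bB : B := algebraMap C B b
    have hbB : bB ^ p = 0 := by simp only [bB, ← map_pow, hb, map_zero]
    let π : B →ₐ[C] C := AdjoinRoot.liftAlgHom _ (Algebra.ofId C C) a (by rw [eval₂_X_pow]; exact ha)
    let π₀ : B →ₐ[C] C := AdjoinRoot.liftAlgHom _ (Algebra.ofId C C) 0
      (by rw [eval₂_X_pow]; exact zero_pow hp0)
    have hπr : π r = a := AdjoinRoot.liftAlgHom_root _ _ _ (by rw [eval₂_X_pow]; exact ha)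
    have hπ₀r : π₀ r = 0 := AdjoinRoot.liftAlgHom_root _ _ _ (by rw [eval₂_X_pow]; exact zero_pow hp0)
    have h := deriv C id (u r bB hr hbB) (fun σ hσ => by
      let i : B →ₐ[k] DualNumber B := (IsScalarTower.toAlgHom k B (DualNumber B))
      have hbD : (i bB) ^ p = 0 := by rw [← map_pow, hbB, map_zero]
      have e3 : (σ.restrictScalars k) (u r bB hr hbB) =
          u (i r + DualNumber.eps) (i bB) (AlphaP.add_pow_eq_zero p k (Commute.all _ _)
            (by rw [← map_pow, hr, map_zero]) (sqp _ DualNumber.eps_mul_eps)) hbD :=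
        unat _ _ _ _ _ _ _ _ _ hσ (by
          show σ (algebraMap C B b) = i (algebraMap C B b)
          rw [AlgHom.commutes]
          rfl)
      refine e3.trans ?_
      simp only [u]
      rw [qadd _ _ (by rw [← map_pow, hr, map_zero]) (sqp _ DualNumber.eps_mul_eps), P.mulL]
      have e4 := mid (DualNumber B) DualNumber.eps (i bB) DualNumber.eps_mul_eps hbD
      simp only [u] at e4
      rw [e4, mul_one]
      exact (unat i r bB hr hbB _ _ _ _ rfl rfl).symm) a π hπr π₀ hπ₀r
    have h1 : (π.restrictScalars k) (u r bB hr hbB) = u a b ha hb :=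
      unat _ _ _ _ _ _ _ _ _ hπr (π.commutes b)
    have h2 : (π₀.restrictScalars k) (u r bB hr hbB) = u 0 b (zero_pow (n := p) hp0) hb :=
      unat _ _ _ _ _ _ _ _ _ hπ₀r (π₀.commutes b)
    rw [← h1]
    refine h.trans (h2.trans ?_)
    simp only [u, q0, P.oneL]
  have hx : (x.ofConv (AlphaP.x p k)) ^ p = 0 := by rw [← map_pow, AlphaP.x_pow, map_zero]
  have hy : (y.ofConv (AlphaP.x p k)) ^ p = 0 := by rw [← map_pow, AlphaP.x_pow, map_zero]
  have := full C _ _ hx hy
  simp only [u, q] at this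
  rwa [show toConv (AlphaP.lift p k _ hx) = x from congrArg toConv (AlphaP.algHom_ext (by simp)),
    show toConv (AlphaP.lift p k _ hy) = y from congrArg toConv (AlphaP.algHom_ext (by simp))] at this

end Pair

/-- A cocycle on `α_2` is symmetric. -/
theorem symm_of_normalized [CharP k 2] (W : ∀ (C : Type u) [CommRing C] [Algebra k C],
      WithConv (AlphaP.A 2 k →ₐ[k] C) → WithConv (AlphaP.A 2 k →ₐ[k] C) → C)
    (nat : ∀ {C D : Type u} [CommRing C] [Algebra k C] [CommRing D] [Algebra k D] (L : C →ₐ[k] D)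
      (x y : WithConv (AlphaP.A 2 k →ₐ[k] C)), L (W C x y) = W D (toConv (L.comp x.ofConv)) (toConv (L.comp y.ofConv)))
    (h1 : ∀ {C : Type u} [CommRing C] [Algebra k C] (x : WithConv (AlphaP.A 2 k →ₐ[k] C)), W C 1 x = 1)
    (h1' : ∀ {C : Type u} [CommRing C] [Algebra k C] (x : WithConv (AlphaP.A 2 k →ₐ[k] C)), W C x 1 = 1)
    {C : Type u} [CommRing C] [Algebra k C] (x y : WithConv (AlphaP.A 2 k →ₐ[k] C)) : W C x y = W C y x := by
  classical
  haveI : Fact (Nat.Prime 2) := ⟨Nat.prime_two⟩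
  let pe : ∀ {D : Type u} [CommRing D] [Algebra k D] (e : D), e * e = 0 → WithConv (AlphaP.A 2 k →ₐ[k] D) :=
    fun e he => toConv (AlphaP.lift 2 k e (by rw [sq, he]))
  have hzero : ∀ {D : Type u} [CommRing D] [Algebra k D] (L : C2 k →ₐ[k] D) (e : C2 k) (he : e * e = 0), L e = 0 →
      toConv (L.comp (pe e he).ofConv) = 1 := fun {D} _ _ L e he h => by
    apply WithConv.ofConv_injective
    refine AlphaP.algHom_ext ?_
    show L (AlphaP.lift 2 k e (by rw [sq, he]) (AlphaP.x 2 k)) = (1 : WithConv (AlphaP.A 2 k →ₐ[k] D)) (AlphaP.x 2 k)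
    rw [AlgHom.convOne_apply, AlphaP.counit_x, AlphaP.lift_x, h, map_zero]
  obtain ⟨σ, hσ1, hσ2⟩ := exists_map2 (k := k) (e2 k) (e1 k) (he2 k) (he1 k)
  let w := W (C2 k) (pe (e1 k) (he1 k)) (pe (e2 k) (he2 k))
  obtain ⟨d, hd⟩ := eq_one_add w
    (fun L hL => by
      exact (nat (C := C2 k) L _ _).trans ((congrArg (fun z => W _ z _) (hzero L (e1 k) (he1 k) hL)).trans (h1 _)))
    (fun L hL => by
      exact (nat (C := C2 k) L _ _).trans ((congrArg (fun z => W _ _ z) (hzero L (e2 k) (he2 k) hL)).trans (h1' _)))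
  obtain ⟨L, hL1, hL2⟩ := exists_map2 (k := k) (C := C) (x.ofConv (AlphaP.x 2 k)) (y.ofConv (AlphaP.x 2 k))
    (by rw [← map_mul, ← sq, AlphaP.x_pow, map_zero]) (by rw [← map_mul, ← sq, AlphaP.x_pow, map_zero])
  have htr : ∀ {D : Type u} [CommRing D] [Algebra k D] (L : C2 k →ₐ[k] D) (e : C2 k) (he : e * e = 0)
      (z : WithConv (AlphaP.A 2 k →ₐ[k] D)), L e = z.ofConv (AlphaP.x 2 k) → toConv (L.comp (pe e he).ofConv) = z :=
    fun L e he z h => congrArg toConv (AlphaP.algHom_ext (by simp [pe, h]))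
  have h3 : σ w = W (C2 k) (pe (e2 k) (he2 k)) (pe (e1 k) (he1 k)) :=
    (nat (C := C2 k) (D := C2 k) σ _ _).trans (congrArg₂ (W (C2 k))
      (htr σ (e1 k) (he1 k) (pe (e2 k) (he2 k)) (hσ1.trans (AlphaP.lift_x (p := 2) (R := k) (e2 k) (by rw [sq, he2])).symm))
      (htr σ (e2 k) (he2 k) (pe (e1 k) (he1 k)) (hσ2.trans (AlphaP.lift_x (p := 2) (R := k) (e1 k) (by rw [sq, he1])).symm)))
  have h4 : L w = W C x y :=
    (nat (C := C2 k) L _ _).trans (congrArg₂ (W C) (htr L (e1 k) (he1 k) x hL1) (htr L (e2 k) (he2 k) y hL2))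
  have h5 : L (W (C2 k) (pe (e2 k) (he2 k)) (pe (e1 k) (he1 k))) = W C y x :=
    (nat (C := C2 k) L _ _).trans (congrArg₂ (W C) (htr L (e2 k) (he2 k) y hL2) (htr L (e1 k) (he1 k) x hL1))
  have hσw : σ w = w := by
    rw [hd, map_add, map_one, map_mul, map_mul, AlgHom.commutes, hσ1, hσ2, mul_comm (e2 k)]
  rw [← h4, ← h5, ← h3, hσw]

end Groth.Agent.PrimeTheta
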