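import Groth.Agent.PrimeThetaLib.Alg
import Groth.Agent.MuPairLib.Main
import Groth.Agent.ExtGmLib.Main
import Groth.Agent.MonoQuotLib.Cov
import Groth.Agent.S17331
import Groth.Agent.HopfPointsLib.Extend

/-!
# Central extensions of finite groups of prime order by the multiplicative group are commutative
-/

set_option autoImplicit false
set_option backward.isDefEq.respectTransparency false
set_option linter.style.haveILetI false
set_option maxHeartbeats 1000000

universe u

open CategoryTheory CategoryTheory.Limits MonoidalCategory CartesianMonoidalCategory AlgebraicGeometry CoactBr WithConv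
open scoped MonObj TensorProduct
open ExtGm (fn)

attribute [local instance] CoactBr.braidedAlgSpecOf
attribute [-instance] CategoryTheory.Hom.commGroup

noncomputable section

namespace Groth.Agent.PrimeTheta

variable {k : Type u} [Field k] {A : Type u} [CommRing A] [HopfAlgebra k A]

theorem isKernel_of_isExt {S : Scheme.{u}} {G E Q : Over S} [GrpObj G] [GrpObj E] [GrpObj Q] {u : G ⟶ E} {v : E ⟶ Q}
    (h : ExtGm.IsExt u v) : AlgGrp.IsKernel u v := by
  haveI := h.mon_u; haveI := h.mon_v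
  have w : u ≫ v = toUnit G ≫ η[Q] := by rw [← Hom.one_def]; exact h.comp
  have key : ∀ s : PullbackCone v η[Q], ∃! g : s.pt ⟶ G, g ≫ u = s.fst := fun s => by
    have hs : (1 : s.pt ⟶ E) ≫ v = s.fst ≫ v := by
      rw [MonObj.one_comp, s.condition, toUnit_unique s.snd (toUnit _), Hom.one_def]
    obtain ⟨g, hg, hu⟩ := h.ker s.pt 1 s.fst hs
    exact ⟨g, by simpa using hg, fun g' hg' => hu g' (by simpa using hg')⟩
  exact ⟨⟨w⟩, ⟨PullbackCone.IsLimit.mk w (fun s => (key s).choose) (fun s => (key s).choose_spec.1)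
    (fun s => toUnit_unique _ _) (fun s m hm _ => (key s).choose_spec.2 m hm)⟩⟩

theorem isCov_of_isExt {S : Scheme.{u}} {G E Q : Over S} [GrpObj G] [GrpObj E] [GrpObj Q] {u : G ⟶ E} {v : E ⟶ Q}
    (h : ExtGm.IsExt u v) : MonoQuot.IsCov v.left := by
  obtain ⟨T, π, t, hf, hs, hl, rfl⟩ := h.cover
  haveI := hf; haveI := hs; haveI := hl
  obtain ⟨Z, q, r, hr, hq⟩ := MonoQuot.IsCov.of_fppf (t ≫ v).left
  exact ⟨Z, q, r ≫ t.left, by rw [Category.assoc, ← Over.comp_left, hr], hq⟩

variable {E : Over (Spec (CommRingCat.of k))} [GrpObj E] {u : Red.Gm (Spec (CommRingCat.of k)) ⟶ E} {v : E ⟶ sp k A}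

theorem pt_conv {C : Type u} [CommRing C] [Algebra k C] (x y : WithConv (A →ₐ[k] C)) :
    pt x.ofConv * pt y.ofConv = pt (x * y).ofConv :=
  Groth.Agent.DiagRep.pt_mul_conv x.ofConv y.ofConv

theorem pt_comp' {C D : Type u} [CommRing C] [Algebra k C] [CommRing D] [Algebra k D] (L : C →ₐ[k] D)
    (x : A →ₐ[k] C) : pt L ≫ pt x = pt (L.comp x) := (pt_comp x L).symm

/-- The pairing of a morphism on pairs of points. -/
theorem eq_one_of_trivial (b : sp k A ⊗ sp k A ⟶ Red.Gm (Spec (CommRingCat.of k)))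
    (hL : ∀ (T : Over (Spec (CommRingCat.of k))) (g g' h : T ⟶ sp k A),
      lift (g * g') h ≫ b = (lift g h ≫ b) * (lift g' h ≫ b))
    (hR : ∀ (T : Over (Spec (CommRingCat.of k))) (g h h' : T ⟶ sp k A),
      lift g (h * h') ≫ b = (lift g h ≫ b) * (lift g h' ≫ b))
    (hA : ∀ (T : Over (Spec (CommRingCat.of k))) (g : T ⟶ sp k A), lift g g ≫ b = 1)
    (htriv : ∀ (P : Pair k A) (C : Type u) [CommRing C] [Algebra k C] (x y : WithConv (A →ₐ[k] C)), P.V C x y = 1) :
    b = 1 := by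
  let P : Pair k A :=
    { V := fun C _ _ x y => fn (lift (pt x.ofConv) (pt y.ofConv) ≫ b)
      nat := fun {C D} _ _ _ _ L x y => by
        rw [← ExtGm.fn_pt, ← Category.assoc, comp_lift, pt_comp', pt_comp', ofConv_toConv, ofConv_toConv]
      unit := fun x y => ExtGm.isUnit_fn _
      mulL := fun x x' y => by rw [← pt_conv, hL, ExtGm.fn_mul]
      mulR := fun x y y' => by rw [← pt_conv, hR, ExtGm.fn_mul]
      alt := fun x => by rw [hA, ExtGm.fn_one] }
  rw [← cancel_epi (ExtGm.pair k A A), MonObj.comp_one]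
  apply ExtGm.fn_injective
  rw [ExtGm.fn_one]
  exact htriv P (A ⊗[k] A) (toConv Algebra.TensorProduct.includeLeft) (toConv Algebra.TensorProduct.includeRight)

/-- Extensions of `α_2` with a section are commutative. -/
theorem comm_alpha_two [CharP k 2] [Module.Finite k A] (e : A ≃ₐc[k] AlphaP.A 2 k)
    (h : ExtGm.IsExt u v)
    (hcent : ∀ (T : Over (Spec (CommRingCat.of k))) (g : T ⟶ E) (t : T ⟶ Red.Gm (Spec (CommRingCat.of k))),
      g * (t ≫ u) = (t ≫ u) * g)
    (hQ : ∀ (T : Over (Spec (CommRingCat.of k))) (a c : T ⟶ sp k A), a * c = c * a) :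
    ∀ (T : Over (Spec (CommRingCat.of k))) (g g' : T ⟶ E), g * g' = g' * g := by
  haveI : Fact (Nat.Prime 2) := ⟨Nat.prime_two⟩
  haveI := h.mon_u; haveI := h.mon_v
  -- a section
  obtain ⟨R', _, j, hj, ⟨pp, -⟩, sec, hsec⟩ := ExtGm.exists_section_near h (default : Spec (CommRingCat.of k))
  haveI := hj
  haveI : IsIso j := by
    have hsurj : Surjective j := ⟨fun x => ⟨pp, Subsingleton.elim (α := PrimeSpectrum k) _ _⟩⟩
    exact (isIso_iff_isOpenImmersion_and_surjective j).2 ⟨hj, hsurj⟩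
  obtain ⟨s₀, hs₀⟩ : ∃ s₀ : sp k A ⟶ E, s₀ ≫ v = 𝟙 _ := by
    let q := (ExtGm.pts j (sp k A) _).symm (𝟙 (Red.bc j (sp k A)))
    haveI : IsIso q.left := by
      have : q.left = pullback.fst (sp k A).hom j := by
        simp [q, ExtGm.pts, Adjunction.homEquiv, Over.mapPullbackAdj]
      rw [this]
      infer_instance
    haveI : IsIso q := by
      haveI : IsIso ((Over.forget _).map q) := inferInstanceAs (IsIso q.left)
      exact isIso_of_reflects_iso q (Over.forget _)
    exact ⟨inv q ≫ sec, by rw [Category.assoc, hsec, IsIso.inv_hom_id]⟩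
  let c : sp k A ⟶ E := toUnit _ ≫ (η[sp k A] ≫ s₀)
  have hc : c ≫ v = 1 := by rw [Category.assoc, Category.assoc, hs₀, Category.comp_id, Hom.one_def]
  let s : sp k A ⟶ E := s₀ * c⁻¹
  have hs : s ≫ v = 𝟙 _ := by
    rw [MonObj.mul_comp, GrpObj.inv_comp, hs₀, hc, inv_one, _root_.mul_one]
  have hs1 : ∀ T : Over (Spec (CommRingCat.of k)), (1 : T ⟶ sp k A) ≫ s = 1 := fun T => by
    have : (1 : T ⟶ sp k A) ≫ c = (1 : T ⟶ sp k A) ≫ s₀ := by
      simp only [c, Hom.one_def, Category.assoc]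
      rw [← Category.assoc η[sp k A] (toUnit _), toUnit_unique (η[sp k A] ≫ toUnit _) (𝟙 _), Category.id_comp]
    rw [MonObj.comp_mul, GrpObj.comp_inv, this, mul_inv_cancel]
  -- the cocycle
  have hker : ∀ (T : Over (Spec (CommRingCat.of k))) (x y : T ⟶ sp k A),
      ∃! g : T ⟶ Red.Gm (Spec (CommRingCat.of k)), ((x * y) ≫ s) * (g ≫ u) = (x ≫ s) * (y ≫ s) := fun T x y =>
    h.ker T _ _ (by simp only [MonObj.mul_comp, Category.assoc, hs, Category.comp_id])
  let w : ∀ (T : Over (Spec (CommRingCat.of k))), (T ⟶ sp k A) → (T ⟶ sp k A) →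
      (T ⟶ Red.Gm (Spec (CommRingCat.of k))) := fun T x y => (hker T x y).choose
  have hw : ∀ T x y, ((x * y) ≫ s) * (w T x y ≫ u) = (x ≫ s) * (y ≫ s) := fun T x y => (hker T x y).choose_spec.1
  have huniq : ∀ T x y g, ((x * y) ≫ s) * (g ≫ u) = (x ≫ s) * (y ≫ s) → g = w T x y :=
    fun T x y g hg => (hker T x y).choose_spec.2 g hg
  have hwnat : ∀ {T T' : Over (Spec (CommRingCat.of k))} (f : T' ⟶ T) (x y : T ⟶ sp k A),
      f ≫ w T x y = w T' (f ≫ x) (f ≫ y) := fun f x y => huniq _ _ _ _ (by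
    have := congrArg (f ≫ ·) (hw _ x y)
    simpa only [MonObj.comp_mul, ← Category.assoc] using this)
  have hw1 : ∀ (T : Over (Spec (CommRingCat.of k))) (y : T ⟶ sp k A), w T 1 y = 1 := fun T y =>
    (huniq _ _ _ _ (by rw [_root_.one_mul, MonObj.one_comp, _root_.mul_one, hs1, _root_.one_mul])).symm
  have hw1' : ∀ (T : Over (Spec (CommRingCat.of k))) (y : T ⟶ sp k A), w T y 1 = 1 := fun T y =>
    (huniq _ _ _ _ (by rw [_root_.mul_one, MonObj.one_comp, _root_.mul_one, hs1, _root_.mul_one])).symm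
  have hpt1 : ∀ (C : Type u) [CommRing C] [Algebra k C], pt (1 : WithConv (A →ₐ[k] C)).ofConv = 1 := fun C _ _ =>
    map_one Spec.mapMulEquiv
  let em := ((e : A →ₐc[k] AlphaP.A 2 k) : A →ₐ[k] AlphaP.A 2 k)
  let W : ∀ (C : Type u) [CommRing C] [Algebra k C],
      WithConv (AlphaP.A 2 k →ₐ[k] C) → WithConv (AlphaP.A 2 k →ₐ[k] C) → C :=
    fun C _ _ x y => fn (w _ (pt (x.ofConv.comp em)) (pt (y.ofConv.comp em)))
  have hem1 : ∀ (C : Type u) [CommRing C] [Algebra k C],
      (1 : WithConv (AlphaP.A 2 k →ₐ[k] C)).ofConv.comp em = (1 : WithConv (A →ₐ[k] C)).ofConv := fun C _ _ => by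
    refine AlgHom.ext fun a => ?_
    show (1 : WithConv (AlphaP.A 2 k →ₐ[k] C)) (em a) = (1 : WithConv (A →ₐ[k] C)) a
    rw [AlgHom.convOne_apply, AlgHom.convOne_apply]
    exact congrArg (algebraMap k C) (CoalgHomClass.counit_comp_apply (e : A →ₐc[k] AlphaP.A 2 k) a)
  have hsymW : ∀ (C : Type u) [CommRing C] [Algebra k C] (x y : WithConv (AlphaP.A 2 k →ₐ[k] C)),
      W C x y = W C y x := fun C _ _ x y =>
    symm_of_normalized W (fun {C D} _ _ _ _ L x y => by
        simp only [W]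
        rw [← ExtGm.fn_pt, hwnat, pt_comp', pt_comp'])
      (fun {C} _ _ x => by simp only [W]; rw [hem1, hpt1, hw1, ExtGm.fn_one])
      (fun {C} _ _ x => by simp only [W]; rw [hem1, hpt1, hw1', ExtGm.fn_one]) x y
  have hsym : ∀ (C : Type u) [CommRing C] [Algebra k C] (x y : A →ₐ[k] C), w _ (pt x) (pt y) = w _ (pt y) (pt x) := by
    intro C _ _ x y
    apply ExtGm.fn_injective
    let em' := ((e.symm : AlphaP.A 2 k →ₐc[k] A) : AlphaP.A 2 k →ₐ[k] A)
    have := hsymW C (toConv (x.comp em')) (toConv (y.comp em'))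
    simp only [W] at this
    rwa [show (x.comp em').comp em = x from AlgHom.ext fun a => congrArg x (e.symm_apply_apply a),
      show (y.comp em').comp em = y from AlgHom.ext fun a => congrArg y (e.symm_apply_apply a)] at this
  have huniv : w _ (fst (sp k A) (sp k A)) (snd _ _) = w _ (snd (sp k A) (sp k A)) (fst _ _) := by
    rw [← cancel_epi (ExtGm.pair k A A), hwnat, hwnat, lift_fst, lift_snd]
    exact hsym _ _ _
  have hsec : ∀ (T : Over (Spec (CommRingCat.of k))) (x y : T ⟶ sp k A),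
      (x ≫ s) * (y ≫ s) = (y ≫ s) * (x ≫ s) := fun T x y => by
    have e1 := congrArg (lift x y ≫ ·) huniv
    simp only [hwnat, lift_fst, lift_snd] at e1
    rw [← hw T x y, ← hw T y x, hQ T x y, e1]
  intro T g g'
  have dec : ∀ g : T ⟶ E, ∃ t, ((g ≫ v) ≫ s) * (t ≫ u) = g := fun g =>
    (h.ker T _ g (by simp only [Category.assoc, hs, Category.comp_id])).exists
  obtain ⟨a, ha⟩ := dec g
  obtain ⟨b, hb⟩ := dec g'
  have ca : Commute g' (a ≫ u) := hcent T g' a
  have cb : Commute ((g ≫ v) ≫ s) (b ≫ u) := hcent T _ b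
  have cs : Commute ((g ≫ v) ≫ s) ((g' ≫ v) ≫ s) := hsec T _ _
  have cg : Commute ((g ≫ v) ≫ s) g' := by rw [← hb]; exact cs.mul_right cb
  have := cg.mul_left ca.symm
  rwa [ha] at this

/-- A central extension of a finite group scheme of prime order by the multiplicative group is commutative. -/
theorem comm_of_prime [IsAlgClosed k] [Module.Finite k A] (ℓ : ℕ) [Fact ℓ.Prime] (hA : Module.finrank k A = ℓ)
    (h : ExtGm.IsExt u v)
    (hcent : ∀ (T : Over (Spec (CommRingCat.of k))) (g : T ⟶ E) (t : T ⟶ Red.Gm (Spec (CommRingCat.of k))),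
      g * (t ≫ u) = (t ≫ u) * g)
    (hQ : ∀ (T : Over (Spec (CommRingCat.of k))) (a c : T ⟶ sp k A), a * c = c * a) :
    ∀ (T : Over (Spec (CommRingCat.of k))) (g g' : T ⟶ E), g * g' = g' * g := by
  haveI := h.mon_u; haveI := h.mon_v
  have viaPair : (∀ (P : Pair k A) (C : Type u) [CommRing C] [Algebra k C] (x y : WithConv (A →ₐ[k] C)),
      P.V C x y = 1) → ∀ (T : Over (Spec (CommRingCat.of k))) (g g' : T ⟶ E), g * g' = g' * g := fun htriv => by
    obtain ⟨b, hL, hR, hAl, hfin⟩ := MuPair.exists_pairing u v (isKernel_of_isExt h) (isCov_of_isExt h) hcent hQ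
    exact hfin (eq_one_of_trivial b hL hR hAl htriv)
  by_cases hred : IsReduced A
  · exact viaPair fun P C _ _ x y => P.trivial_of_points hA x y
  obtain ⟨p, hpc⟩ := CharP.exists k
  rcases CharP.char_is_prime_or_zero k p with hp | hp
  swap
  · subst hp
    haveI := CharP.charP_to_charZero k
    exact absurd (HopfPoints.isReduced_of_charZero (k := k) (A := A)) hred
  haveI : Fact p.Prime := ⟨hp⟩
  have hnc : ∀ q : ℕ, [Fact q.Prime] → ¬ Nonempty (A ≃ₐc[k] ConstGrp.F k (Multiplicative (ZMod q))) := by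
    intro q _ ⟨e⟩
    refine hred (isReduced_of_injective
      (((ConstGrp.equivFun k (Multiplicative (ZMod q))).toAlgHom).comp (e : A →ₐc[k] _).toAlgHom) ?_)
    exact (ConstGrp.equivFun k (Multiplicative (ZMod q))).injective.comp (EquivLike.injective e)
  obtain ⟨h1, h2⟩ := Groth.Agent.S17331.result k p A ℓ hA
  by_cases hlp : ℓ = p
  swap
  · exact absurd (h1 hlp) (hnc ℓ)
  rcases h2 hlp with h3 | ⟨⟨e⟩⟩ | ⟨⟨e⟩⟩
  · exact absurd h3 (hnc p)
  · exact viaPair fun P C _ _ x y => P.trivial_of_map e (fun C' _ _ x' y' => Pair.trivial_mu (P.map e) x' y') x y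
  · by_cases h2' : p = 2
    · subst h2'
      exact comm_alpha_two e h hcent hQ
    · exact viaPair fun P C _ _ x y =>
        P.trivial_of_map e (fun C' _ _ x' y' => Pair.trivial_alpha h2' (P.map e) x' y') x y

end Groth.Agent.PrimeTheta
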